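import Cfsg.Agent.H226.Tall.Defs
import Cfsg.Agent.H237.LongKill
import Cfsg.Agent.H237.ReeKill
import Cfsg.Agent.OddHalf.LongSL.Exc
import Cfsg.Agent.OddHalf.NI3.K.TwD4

/-!
# S2927, piece EXO: `NotCP` for the exceptional groups of odd characteristic (`q > 3`) and the Ree groups
-/

set_option autoImplicit false

namespace Cfsg.Agent.H269.Tall

open Subgroup Cfsg
open Cfsg.Agent.H239.CharPLocal (CP)
open Cfsg.Agent.H226.Tall (NotCP TwoC)

universe u

variable {K : Type u} [Group K] [Finite K]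

theorem notCP_of_long {q : ℕ} (hq : 3 < q) (hl : OddHalf.LongSL.HasLong q K) : NotCP K := by
  rintro z ⟨hz, P, hP⟩ hcp
  exact H237.LongKill.long_kill hq hl hz hcp hP

theorem notCP_ree (hK : Lie.IsoRee K) : NotCP K := by
  rintro z ⟨hz, P, hP⟩ hcp
  exact H237.ReeKill.ree_kill hK hz hcp

section

variable {F : Type} [Field F] [Fintype F]

theorem notCP_g2 (ho : Odd (Fintype.card F)) (h3 : 3 < Fintype.card F) (e : K ≃* ↥(Lie.chevG2.group F)) : NotCP K :=
  notCP_of_long h3 ((OddHalf.LongSL.Chev.hasLong_G2 F ho).of_equiv e.symm)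

theorem notCP_f4 (ho : Odd (Fintype.card F)) (h3 : 3 < Fintype.card F) (e : K ≃* ↥(Lie.chevF4.group F)) : NotCP K :=
  notCP_of_long h3 ((OddHalf.LongSL.Chev.hasLong_F4 F ho).of_equiv e.symm)

theorem notCP_e6 (ho : Odd (Fintype.card F)) (h3 : 3 < Fintype.card F) (e : K ≃* ↥(Lie.chevE6.group F)) : NotCP K :=
  notCP_of_long h3 ((OddHalf.LongSL.Chev.hasLong_E6 F ho).of_equiv e.symm)

theorem notCP_e7 (ho : Odd (Fintype.card F)) (h3 : 3 < Fintype.card F) (e : K ≃* ↥(Lie.chevE7.group F)) : NotCP K :=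
  notCP_of_long h3 ((OddHalf.LongSL.Chev.hasLong_E7 F ho).of_equiv e.symm)

theorem notCP_e8 (ho : Odd (Fintype.card F)) (h3 : 3 < Fintype.card F) (e : K ≃* ↥(Lie.chevE8.group F)) : NotCP K :=
  notCP_of_long h3 ((OddHalf.LongSL.Chev.hasLong_E8 F ho).of_equiv e.symm)

theorem notCP_te6 {q : ℕ} (hq : IsPrimePow q) (hF : Fintype.card F = q ^ 2) (ho : Odd q) (h3 : 3 < q)
    (e : K ≃* ↥(Lie.twistedE6 F q)) : NotCP K :=
  notCP_of_long h3 ((OddHalf.LongSL.Tw.hasLong_E6 hq hF ho).of_equiv e.symm)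

theorem notCP_td4 {q : ℕ} (hq : IsPrimePow q) (hF : Fintype.card F = q ^ 3) (ho : Odd q)
    (e : K ≃* ↥(Lie.twistedD4 F q)) : NotCP K := by
  have h4 : 3 < q ^ 3 := by
    have h5 : 3 ≤ q := by
      obtain ⟨t, ht⟩ := ho
      have := hq.one_lt
      omega
    calc 3 < 3 ^ 3 := by norm_num
      _ ≤ q ^ 3 := Nat.pow_le_pow_left h5 3
  exact notCP_of_long h4 ((OddHalf.NI3.K.TwD4.hasLong_short hq hF ho).of_equiv e.symm)

end

/-- the exceptional groups over the field of three elements and `²E₆(3)` -/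
def ExcThree (K : Type u) [Group K] : Prop :=
  (∃ (F : Type) (_ : Field F) (_ : Fintype F), Fintype.card F = 3 ∧
    (Nonempty (K ≃* ↥(Lie.chevG2.group F)) ∨ Nonempty (K ≃* ↥(Lie.chevF4.group F)) ∨
      Nonempty (K ≃* ↥(Lie.chevE6.group F)) ∨ Nonempty (K ≃* ↥(Lie.chevE7.group F)) ∨
      Nonempty (K ≃* ↥(Lie.chevE8.group F)))) ∨
  (∃ (F : Type) (_ : Field F) (_ : Fintype F), Fintype.card F = 9 ∧ Nonempty (K ≃* ↥(Lie.twistedE6 F 3)))

/-- **EXO**, with the exceptions over `F_3` as an alternative -/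
theorem notCP_exc_or {r : ℕ} (hr2 : r ≠ 2)
    (hK : IsExceptionalChevChar r K ∨ IsTwistedE6D4Char r K ∨ (r = 3 ∧ Lie.IsoRee K)) : NotCP K ∨ ExcThree K := by
  rcases hK with hK | hK | ⟨-, hK⟩
  · obtain ⟨F, i1, i2, i3, hF⟩ := hK
    have hr : r.Prime := (CharP.char_is_prime_or_zero F r).resolve_right (CharP.char_ne_zero_of_finite F r)
    have hodd : Odd (Fintype.card F) := by
      have h2 : ringChar F ≠ 2 := by
        rw [ringChar.eq F r]
        exact hr2
      have := FiniteField.odd_card_of_char_ne_two h2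
      rwa [Nat.odd_iff]
    have hone : 1 < Fintype.card F := Fintype.one_lt_card
    by_cases h3 : Fintype.card F = 3
    · right
      left
      refine ⟨F, i1, i2, h3, ?_⟩
      rcases hF with ⟨-, h⟩ | h | h | h | h
      · exact Or.inl h
      · exact Or.inr (Or.inl h)
      · exact Or.inr (Or.inr (Or.inl h))
      · exact Or.inr (Or.inr (Or.inr (Or.inl h)))
      · exact Or.inr (Or.inr (Or.inr (Or.inr h)))
    · left
      have h4 : 3 < Fintype.card F := by
        obtain ⟨t, ht⟩ := hodd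
        omega
      rcases hF with ⟨-, ⟨e⟩⟩ | ⟨⟨e⟩⟩ | ⟨⟨e⟩⟩ | ⟨⟨e⟩⟩ | ⟨⟨e⟩⟩
      · exact notCP_g2 hodd h4 e
      · exact notCP_f4 hodd h4 e
      · exact notCP_e6 hodd h4 e
      · exact notCP_e7 hodd h4 e
      · exact notCP_e8 hodd h4 e
  · obtain ⟨F, i1, i2, i3, q, hq, hF⟩ := hK
    have hodd : Odd (Fintype.card F) := by
      have h2 : ringChar F ≠ 2 := by
        rw [ringChar.eq F r]
        exact hr2
      have := FiniteField.odd_card_of_char_ne_two h2
      rwa [Nat.odd_iff]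
    rcases hF with ⟨hF, ⟨e⟩⟩ | ⟨hF, ⟨e⟩⟩
    · have ho : Odd q := by
        rw [hF] at hodd
        exact (Nat.odd_pow_iff two_ne_zero).1 hodd
      by_cases h3 : q = 3
      · subst h3
        exact Or.inr (Or.inr ⟨F, i1, i2, hF, ⟨e⟩⟩)
      · have h4 : 3 < q := by
          obtain ⟨t, ht⟩ := ho
          have := hq.one_lt
          omega
        exact Or.inl (notCP_te6 hq hF ho h4 e)
    · have ho : Odd q := by
        rw [hF] at hodd
        exact (Nat.odd_pow_iff three_ne_zero).1 hodd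
      exact Or.inl (notCP_td4 hq hF ho e)
  · exact Or.inl (notCP_ree hK)

/-- **EXO** -/
theorem notCP_exc {r : ℕ} (hr2 : r ≠ 2)
    (hK : IsExceptionalChevChar r K ∨ IsTwistedE6D4Char r K ∨ (r = 3 ∧ Lie.IsoRee K)) (h3 : ¬ ExcThree K) :
    NotCP K := (notCP_exc_or hr2 hK).resolve_right h3

end Cfsg.Agent.H269.Tall
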